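import Groth.Agent.PicProjLib.Chart
import Groth.Agent.ProjClosed.Quot
import Groth.Agent.FlatLocus.Scheme
import Groth.Agent.ProjOverLib.QuotOver

/-!
# Charts of quotients of the graded polynomial ring
-/

set_option autoImplicit false
set_option linter.style.haveILetI false
set_option backward.isDefEq.respectTransparency false

universe u

open CategoryTheory AlgebraicGeometry MvPolynomial HomogeneousLocalization

noncomputable section

namespace Groth.Agent.FlatThickLib

/-- A localization at a smaller prime of a flat localization is flat. -/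
theorem flat_atPrime_of_le {A T : Type u} [CommRing A] [CommRing T] [Algebra A T] (w w₀ : Ideal T) [w.IsPrime]
    [w₀.IsPrime] (h : w ≤ w₀) [Module.Flat A (Localization.AtPrime w₀)] : Module.Flat A (Localization.AtPrime w) := by
  have hle : w₀.primeCompl ≤ w.primeCompl := fun x hx hw => hx (h hw)
  letI : Algebra (Localization.AtPrime w₀) (Localization.AtPrime w) :=
    IsLocalization.localizationAlgebraOfSubmonoidLe (Localization.AtPrime w₀) (Localization.AtPrime w) _ _ hle
  haveI : IsScalarTower T (Localization.AtPrime w₀) (Localization.AtPrime w) :=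
    IsLocalization.localization_isScalarTower_of_submonoid_le (Localization.AtPrime w₀) (Localization.AtPrime w) _ _ hle
  haveI : IsScalarTower A (Localization.AtPrime w₀) (Localization.AtPrime w) := IsScalarTower.of_algebraMap_eq fun a => by
    rw [IsScalarTower.algebraMap_apply A T (Localization.AtPrime w₀),
      ← IsScalarTower.algebraMap_apply T (Localization.AtPrime w₀) (Localization.AtPrime w),
      ← IsScalarTower.algebraMap_apply]
  haveI := IsLocalization.isLocalization_of_submonoid_le (Localization.AtPrime w₀) (Localization.AtPrime w) _ _ hle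
  haveI : Module.Flat (Localization.AtPrime w₀) (Localization.AtPrime w) :=
    IsLocalization.flat _ (Submonoid.map (algebraMap T (Localization.AtPrime w₀)) w.primeCompl)
  exact Module.Flat.trans A (Localization.AtPrime w₀) (Localization.AtPrime w)

/-- Localizations of a quotient ring are quotients of localizations. -/
theorem flat_atPrime_of_quotient {A P T : Type u} [CommRing A] [CommRing P] [CommRing T] [Algebra A P] [Algebra A T]
    (θ : P →ₐ[A] T) (hθ : Function.Surjective θ) (I : Ideal P) (hI : RingHom.ker θ = I) (w : Ideal T) [w.IsPrime]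
    (h : Module.Flat A (Localization.AtPrime (w.comap θ.toRingHom) ⧸
      I.map (algebraMap P (Localization.AtPrime (w.comap θ.toRingHom))))) :
    Module.Flat A (Localization.AtPrime w) := by
  let q := w.comap θ.toRingHom
  let g : Localization.AtPrime q →+* Localization.AtPrime w := Localization.localRingHom q w θ.toRingHom rfl
  have hgs : Function.Surjective g := fun y => by
    obtain ⟨⟨t, s, hs⟩, rfl⟩ := IsLocalization.mk'_surjective w.primeCompl y
    obtain ⟨a, rfl⟩ := hθ t
    obtain ⟨b, rfl⟩ := hθ s
    exact ⟨IsLocalization.mk' _ a (⟨b, hs⟩ : q.primeCompl), Localization.localRingHom_mk' q w θ.toRingHom rfl a ⟨b, hs⟩⟩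
  have hker : RingHom.ker g = I.map (algebraMap P (Localization.AtPrime q)) := by
    refine le_antisymm (fun x hx => ?_) (Ideal.map_le_iff_le_comap.2 fun a ha => ?_)
    · obtain ⟨⟨a, s⟩, rfl⟩ := IsLocalization.mk'_surjective q.primeCompl x
      rw [RingHom.mem_ker, Localization.localRingHom_mk', IsLocalization.mk'_eq_zero_iff] at hx
      obtain ⟨⟨t, ht⟩, hta⟩ := hx
      obtain ⟨b, rfl⟩ := hθ t
      refine (IsLocalization.mk'_mem_iff (x := a) (y := s)).2 ?_
      refine (IsLocalization.algebraMap_mem_map_algebraMap_iff q.primeCompl (Localization.AtPrime q) I a).2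
        ⟨b, ht, ?_⟩
      rw [← hI, RingHom.mem_ker]
      exact (map_mul θ b a).trans hta
    · rw [Ideal.mem_comap, RingHom.mem_ker, Localization.localRingHom_to_map]
      show algebraMap T _ (θ a) = 0
      rw [show θ a = 0 from RingHom.mem_ker.1 (hI ▸ ha), map_zero]
  let e : (Localization.AtPrime q ⧸ I.map (algebraMap P (Localization.AtPrime q))) ≃+* Localization.AtPrime w :=
    (Ideal.quotEquivOfEq hker.symm).trans (RingHom.quotientKerEquivOfSurjective hgs)
  have he : ∀ a : A, e (algebraMap A _ a) = algebraMap A (Localization.AtPrime w) a := fun a => by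
    show g (algebraMap A (Localization.AtPrime q) a) = _
    rw [IsScalarTower.algebraMap_apply A P, Localization.localRingHom_to_map]
    show algebraMap T _ (θ (algebraMap A P a)) = _
    rw [θ.commutes, ← IsScalarTower.algebraMap_apply]
  exact Module.Flat.of_linearEquiv (AlgEquiv.ofRingEquiv (f := e) he).toLinearEquiv.symm

/-- Flatness of a stalk map of spectra. -/
theorem flat_stalkMap_Spec {A T : Type u} [CommRing A] [CommRing T] [Algebra A T]
    (w : ↥(Spec (CommRingCat.of T))) [hw : Module.Flat A (Localization.AtPrime (show PrimeSpectrum T from w).asIdeal)] :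
    ((Spec.map (CommRingCat.ofHom (algebraMap A T))).stalkMap w).hom.Flat := by
  refine (RingHom.Flat.respectsIso.arrow_mk_iso_iff
    (Scheme.arrowStalkMapSpecIso (CommRingCat.ofHom (algebraMap A T)) w)).2 ?_
  let wi : Ideal T := (show PrimeSpectrum T from w).asIdeal
  let p : Ideal A := wi.comap (algebraMap A T)
  letI : Algebra (Localization.AtPrime p) (Localization.AtPrime wi) :=
    (Localization.localRingHom p wi (algebraMap A T) rfl).toAlgebra
  haveI : IsScalarTower A (Localization.AtPrime p) (Localization.AtPrime wi) := IsScalarTower.of_algebraMap_eq fun a =>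
    (IsScalarTower.algebraMap_apply A T (Localization.AtPrime wi) a).trans
      (Localization.localRingHom_to_map p wi (algebraMap A T) rfl a).symm
  exact (RingHom.flat_algebraMap_iff (R := Localization.AtPrime p) (S := Localization.AtPrime wi)).2
    ((Module.flat_iff_of_isLocalization (Localization.AtPrime p) p.primeCompl (Localization.AtPrime wi)).2 hw)

section Quot

variable (N : ℕ) (A : Type u) [CommRing A] {r : ℕ} (f : Fin r → MvPolynomial (Fin (N + 1)) A)

variable [GradedAlgebra (ProjClosed.quotGrading (CohB1.polyGrading N A) (Ideal.span (Set.range f)))]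

/-- The quotient as a map of graded rings. -/
def quotHom : (CohB1.polyGrading N A) →+*ᵍ ProjClosed.quotGrading (CohB1.polyGrading N A) (Ideal.span (Set.range f)) :=
  { Ideal.Quotient.mk (Ideal.span (Set.range f)) with map_mem := fun {_ x} hx => ⟨x, hx, rfl⟩ }

/-- The map from affine space to a chart of the quotient. -/
def chartHom (i : Fin (N + 1)) :
    MvPolynomial (Fin N) A →+* Away (ProjClosed.quotGrading (CohB1.polyGrading N A) (Ideal.span (Set.range f))) (quotHom N A f (X i)) :=
  (Away.map (quotHom N A f) (X i)).comp (PicProjLib.polyToAway N A i)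

theorem surjective_chartHom (i : Fin (N + 1)) : Function.Surjective (chartHom N A f i) := by
  intro z
  obtain ⟨n, b, hb, rfl⟩ := Away.mk_surjective _ ((quotHom N A f).map_mem (ProjMap.X_mem i)) z
  obtain ⟨a, ha, hab⟩ := hb
  refine ⟨PicProjLib.awayToPoly N A i (Away.mk (CohB1.polyGrading N A) (ProjMap.X_mem i) n a ha), ?_⟩
  rw [chartHom, RingHom.comp_apply, show PicProjLib.polyToAway N A i (PicProjLib.awayToPoly N A i _) = _ from
    RingHom.congr_fun (PicProjLib.polyToAway_comp N A i) _, RingHom.id_apply, Away.map_mk]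
  congr 1

/-- The dehomogenized equations. -/
abbrev eqs (i : Fin (N + 1)) (l : Fin r) : MvPolynomial (Fin N) A := aeval (PicProjLib.dehomVec N A i) (f l)

theorem awayToPoly_mk (i : Fin (N + 1)) (n : ℕ) (a : MvPolynomial (Fin (N + 1)) A) (ha : a ∈ (CohB1.polyGrading N A) (n • 1)) :
    PicProjLib.awayToPoly N A i (Away.mk (CohB1.polyGrading N A) (ProjMap.X_mem i) n a ha) = aeval (PicProjLib.dehomVec N A i) a := by
  have h := ProjMap.evalAway_mk (A := MvPolynomial (Fin N) A) (v := PicProjLib.dehomVec N A i) (ProjMap.X_mem i)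
    (by simp) n a ha
  simpa [PicProjLib.awayToPoly] using h

theorem ker_chartHom (hf : ∀ l, ∃ d, f l ∈ (CohB1.polyGrading N A) d) (i : Fin (N + 1)) :
    RingHom.ker (chartHom N A f i) = Ideal.span (Set.range (eqs N A f i)) := by
  refine le_antisymm (fun t ht => ?_) (Ideal.span_le.2 ?_)
  · obtain ⟨n, a, ha, hu⟩ := Away.mk_surjective (CohB1.polyGrading N A) (ProjMap.X_mem i) (PicProjLib.polyToAway N A i t)
    have htv : t = aeval (PicProjLib.dehomVec N A i) a := by
      rw [← awayToPoly_mk N A i n a ha, hu]
      exact (RingHom.congr_fun (PicProjLib.awayToPoly_comp N A i) t).symm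
    rw [RingHom.mem_ker, chartHom, RingHom.comp_apply, ← hu, Away.map_mk] at ht
    have h := congrArg HomogeneousLocalization.val ht
    rw [Away.val_mk, val_zero, Localization.mk_eq_mk', IsLocalization.mk'_eq_zero_iff] at h
    obtain ⟨⟨_, k, rfl⟩, hk⟩ := h
    have hmem : X i ^ k * a ∈ (Ideal.span (Set.range f)) := Ideal.Quotient.eq_zero_iff_mem.1 (by
      rw [map_mul, map_pow]; exact hk)
    have h2 := Ideal.mem_map_of_mem (aeval (PicProjLib.dehomVec N A i) : MvPolynomial (Fin (N + 1)) A →ₐ[A] MvPolynomial (Fin N) A).toRingHom hmem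
    rw [Ideal.map_span, ← Set.range_comp, map_mul, map_pow] at h2
    have hone : (aeval (PicProjLib.dehomVec N A i) : MvPolynomial (Fin (N + 1)) A →ₐ[A] MvPolynomial (Fin N) A).toRingHom (X i) = 1 := by simp
    rw [hone, one_pow, one_mul] at h2
    rw [htv]
    exact h2
  · rintro _ ⟨l, rfl⟩
    obtain ⟨d, hd⟩ := hf l
    rw [SetLike.mem_coe, RingHom.mem_ker, eqs, ← awayToPoly_mk N A i d (f l) (by simpa using hd), chartHom,
      RingHom.comp_apply, show PicProjLib.polyToAway N A i (PicProjLib.awayToPoly N A i _) = _ from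
        RingHom.congr_fun (PicProjLib.polyToAway_comp N A i) _, RingHom.id_apply, Away.map_mk]
    apply HomogeneousLocalization.val_injective
    rw [Away.val_mk, val_zero, show quotHom N A f (f l) = 0 from
      Ideal.Quotient.eq_zero_iff_mem.2 (Ideal.subset_span ⟨l, rfl⟩), Localization.mk_zero]

end Quot

/-- A point containing the kernel of a graded surjection lies in the image. -/
theorem mem_range_map_of_ker_le {R S B : Type u} [CommRing R] [CommRing S] [CommRing B] [Algebra R S] [Algebra R B]
    {𝒮 : ℕ → Submodule R S} [GradedAlgebra 𝒮] {ℬ : ℕ → Submodule R B} [GradedAlgebra ℬ] (φ : 𝒮 →+*ᵍ ℬ)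
    (hs : Function.Surjective φ)
    (hφ : HomogeneousIdeal.irrelevant ℬ ≤ (HomogeneousIdeal.irrelevant 𝒮).map φ) (y : ProjectiveSpectrum 𝒮)
    (hy : ∀ a, φ a = 0 → a ∈ y.asHomogeneousIdeal) : y ∈ Set.range (Proj.map φ hφ).base := by
  let q : HomogeneousIdeal ℬ := y.asHomogeneousIdeal.map φ
  have hq : ∀ a, φ a ∈ q ↔ a ∈ y.asHomogeneousIdeal := fun a => by
    refine ⟨fun h => ?_, fun h => Ideal.mem_map_of_mem _ h⟩
    obtain ⟨b, hb, he⟩ := (Ideal.mem_map_iff_of_surjective φ hs).1 h
    have := hy (a - b) (by rw [map_sub]; exact sub_eq_zero.2 he.symm)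
    simpa using add_mem this hb
  haveI := y.isPrime
  have hp : q.toIdeal.IsPrime := by
    refine ⟨fun h => y.isPrime.ne_top ((Ideal.eq_top_iff_one _).2 ((hq 1).1 ?_)), fun {a b} hab => ?_⟩
    · rw [map_one]; exact (Ideal.eq_top_iff_one _).1 h
    · obtain ⟨a, rfl⟩ := hs a
      obtain ⟨b, rfl⟩ := hs b
      rw [← map_mul] at hab
      exact (y.isPrime.mem_or_mem ((hq _).1 hab)).imp (hq a).2 (hq b).2
  have hirr : ¬ HomogeneousIdeal.irrelevant ℬ ≤ q := fun h => by
    exact y.not_irrelevant_le ((HomogeneousIdeal.irrelevant_le _).2 fun n hn a ha =>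
      (hq a).1 (h (HomogeneousIdeal.mem_irrelevant_of_mem _ hn (φ.map_mem ha))))
  refine ⟨(⟨q, hp, hirr⟩ : ProjectiveSpectrum ℬ), ?_⟩
  refine ProjectiveSpectrum.ext (HomogeneousIdeal.ext' fun i a _ => ?_)
  exact hq a

end Groth.Agent.FlatThickLib
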