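import Groth.Agent.CILib.RelGCIFlat
import Groth.Agent.CMInterLib.Ring
import Groth.Agent.GorLib.CM
import Groth.Agent.RegLocLib.AffineDim

/-!
# Flatness of complete intersections in affine space along the closed fibre
-/

set_option autoImplicit false
set_option linter.style.haveILetI false
set_option backward.isDefEq.respectTransparency false

universe u

open MvPolynomial RingTheory.Sequence IsLocalRing

noncomputable section

namespace Groth.Agent.FlatThickLib

/-- The dimension of a quotient of a localization is at most that of the quotient. -/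
theorem ringKrullDim_quotient_localization_le {P : Type u} [CommRing P] (T : Submonoid P) (I : Ideal P) :
    ringKrullDim (Localization T ⧸ I.map (algebraMap P (Localization T))) ≤ ringKrullDim (P ⧸ I) := by
  let γ : P ⧸ I →+* Localization T ⧸ I.map (algebraMap P (Localization T)) :=
    Ideal.quotientMap _ (algebraMap P (Localization T)) Ideal.le_comap_map
  have hinj : Function.Injective (PrimeSpectrum.comap γ) := fun a b h => by
    have h2 := congrArg (PrimeSpectrum.comap (Ideal.Quotient.mk I)) h
    rw [← PrimeSpectrum.comap_comp_apply, ← PrimeSpectrum.comap_comp_apply] at h2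
    simp only [γ, Ideal.quotientMap_comp_mk, PrimeSpectrum.comap_comp_apply] at h2
    exact PrimeSpectrum.comap_injective_of_surjective _ Ideal.Quotient.mk_surjective
      (PrimeSpectrum.localization_comap_injective (Localization T) T h2)
  exact Order.krullDim_le_of_strictMono (PrimeSpectrum.comap γ)
    ((show Monotone (PrimeSpectrum.comap γ) from fun a b h => Ideal.comap_mono h).strictMono_of_injective hinj)

variable {A : Type u} [CommRing A] [IsLocalRing A] [IsNoetherianRing A]

/-- Equations cutting the closed fibre down to the expected dimension cut out a scheme flat along the closed fibre. -/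
theorem flat_quotient_localization {N r n : ℕ} (hr : n + r ≤ N) (F : Fin r → MvPolynomial (Fin N) A)
    (q : Ideal (MvPolynomial (Fin N) A)) [q.IsMaximal]
    (hqm : q.comap (algebraMap A (MvPolynomial (Fin N) A)) = maximalIdeal A) (hq : ∀ i, F i ∈ q)
    (hd : ringKrullDim (MvPolynomial (Fin N) A ⧸
      ((maximalIdeal A).map (algebraMap A (MvPolynomial (Fin N) A)) ⊔ Ideal.span (Set.range F))) ≤ (n : WithBot ℕ∞)) :
    Module.Flat A (Localization.AtPrime q ⧸
      (Ideal.span (Set.range F)).map (algebraMap (MvPolynomial (Fin N) A) (Localization.AtPrime q))) := by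
  let P := MvPolynomial (Fin N) A
  obtain ⟨Q, hQp, hQ, e, he⟩ := CILib.exists_closedFibre_equiv q (maximalIdeal A) hqm
  let κ := (maximalIdeal A).ResidueField
  let m : P →+* MvPolynomial (Fin N) κ := MvPolynomial.map (algebraMap A κ)
  have hm : Function.Surjective m := MvPolynomial.map_surjective _
    (Ideal.algebraMap_residueField_surjective (maximalIdeal A))
  have hQm : m '' Set.univ = Set.univ := Set.image_univ_of_surjective hm
  haveI : Q.IsMaximal := by
    rw [← Ideal.map_comap_of_surjective m hm Q, hQ]
    refine ((Ideal.map_eq_top_or_isMaximal_of_surjective m hm ‹q.IsMaximal›).resolve_left fun h => ?_)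
    rw [← hQ, Ideal.map_comap_of_surjective m hm Q] at h
    exact hQp.ne_top h
  let L := Localization.AtPrime Q
  let I : Ideal (MvPolynomial (Fin N) κ) := Ideal.span (Set.range fun i => m (F i))
  let rs' := List.ofFn fun i => algebraMap _ L (m (F i))
  have hI : Ideal.ofList rs' = I.map (algebraMap _ L) := by
    rw [Ideal.map_span]
    refine congrArg Ideal.span (Set.ext fun z => ?_)
    simp [rs', List.mem_ofFn]
  have hdI : ringKrullDim (MvPolynomial (Fin N) κ ⧸ I) ≤ (n : WithBot ℕ∞) := by
    refine le_trans (ringKrullDim_le_of_surjective (Ideal.Quotient.lift _ ((Ideal.Quotient.mk I).comp m) ?_) ?_) hd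
    · have : (maximalIdeal A).map (algebraMap A P) ⊔ Ideal.span (Set.range F) ≤ RingHom.ker ((Ideal.Quotient.mk I).comp m) := by
        refine sup_le (Ideal.map_le_iff_le_comap.2 fun a ha => ?_) (Ideal.span_le.2 ?_)
        · rw [Ideal.mem_comap, RingHom.mem_ker, MvPolynomial.algebraMap_eq, RingHom.comp_apply,
            MvPolynomial.map_C, (Ideal.algebraMap_residueField_eq_zero).2 ha, map_zero, map_zero]
        · rintro _ ⟨i, rfl⟩
          exact Ideal.Quotient.eq_zero_iff_mem.2 (Ideal.subset_span ⟨i, rfl⟩)
      exact fun a ha => this ha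
    · intro z
      obtain ⟨z, rfl⟩ := Ideal.Quotient.mk_surjective z
      obtain ⟨w, rfl⟩ := hm z
      exact ⟨Ideal.Quotient.mk _ w, rfl⟩
  have hwr : IsWeaklyRegular L rs' := by
    haveI : IsDedekindDomain κ := IsPrincipalIdealRing.isDedekindDomain κ
    haveI : IsRegularRing (MvPolynomial (Fin N) κ) := MvPolynomial.isRegularRing_of_isRegularRing κ
    haveI : IsRegularLocalRing L := IsRegularRing.isRegularLocalRing_localization Q
    refine CMInterLib.isWeaklyRegular_of_supportDim_le rs' L
      ((GorLib.isCohenMacaulay L (GorLib.gorensteinLocal_of_regular L)).supportDim_eq_depth) (fun x hx => ?_) ?_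
    · obtain ⟨i, rfl⟩ := List.mem_ofFn.1 hx
      refine (IsLocalization.AtPrime.to_map_mem_maximal_iff L Q _).2 ?_
      rw [← Ideal.mem_comap, hQ]
      exact hq i
    · rw [Module.supportDim_eq_of_equiv (Submodule.quotEquivOfEq (Ideal.ofList rs' • ⊤ : Submodule L L)
          (I.map (algebraMap _ L)) (by rw [smul_eq_mul, Ideal.mul_top, hI])),
        Module.supportDim_quotient_eq_ringKrullDim, Module.supportDim_self_eq_ringKrullDim, List.length_ofFn,
        IsLocalization.AtPrime.ringKrullDim_eq_height Q L,
        RegLocLib.height_eq_of_isMaximal_mvPolynomial κ N Q inferInstance]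
      refine (add_le_add_left ((ringKrullDim_quotient_localization_le _ I).trans hdI) _).trans ?_
      exact_mod_cast hr
  have hfib : IsWeaklyRegular (Localization.AtPrime q ⧸ (maximalIdeal A).map (algebraMap A (Localization.AtPrime q)))
      ((List.ofFn F).map (algebraMap P (Localization.AtPrime q))) := by
    rw [← isWeaklyRegular_map_algebraMap_iff (Localization.AtPrime q ⧸ (maximalIdeal A).map (algebraMap A (Localization.AtPrime q)))
      (Localization.AtPrime q ⧸ (maximalIdeal A).map (algebraMap A (Localization.AtPrime q)))]
    refine (e.toAddEquiv.isWeaklyRegular_congr ?_).1 hwr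
    rw [List.map_map, List.map_ofFn, List.forall₂_iff_get]
    refine ⟨by simp [rs'], fun i h₁ h₂ z => ?_⟩
    simp only [rs', List.get_ofFn]
    show e (_ * z) = _ * e z
    rw [map_mul]
    congr 1
    exact he _
  have h := (CILib.regular_flat_at q (maximalIdeal A) hqm.symm _ hfib).2 r
  rw [List.take_of_length_le (by simp)] at h
  have hJ : Ideal.ofList ((List.ofFn F).map (algebraMap P (Localization.AtPrime q))) =
      (Ideal.span (Set.range F)).map (algebraMap P (Localization.AtPrime q)) := by
    rw [← Ideal.map_ofList]
    refine congrArg (Ideal.map _) (congrArg Ideal.span (Set.ext fun z => ?_))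
    simp [List.mem_ofFn]
  exact Module.Flat.of_linearEquiv ((Submodule.quotEquivOfEq _ _ hJ.symm).restrictScalars A)

end Groth.Agent.FlatThickLib
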