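import Groth.Agent.GeomHeightLib.Basic
import Groth.Agent.ASp.LiftDim

/-!
# Forms through a closed subset cutting down the dimension
-/

set_option autoImplicit false
set_option linter.style.haveILetI false
set_option backward.isDefEq.respectTransparency false

universe u

open CategoryTheory AlgebraicGeometry TopologicalSpace

noncomputable section

namespace Groth.Agent.FlatThickLib

variable {R A : Type u} [CommRing R] [CommRing A] [Algebra R A] (𝒜 : ℕ → Submodule R A) [GradedAlgebra 𝒜]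

/-- The ideal of a point of `Proj`. -/
def idl (y : Proj 𝒜) : Ideal A := (show ProjectiveSpectrum 𝒜 from y).asHomogeneousIdeal.toIdeal

/-- The common zeros of finitely many elements. -/
def zeros {r : ℕ} (f : Fin r → A) : Set (Proj 𝒜) := {y | ∀ l, f l ∈ idl 𝒜 y}

theorem isClosed_zeros {r : ℕ} (f : Fin r → A) : IsClosed (zeros 𝒜 f) := by
  have h : zeros 𝒜 f = ⋂ l, ((Proj.basicOpen 𝒜 (f l) : Set (Proj 𝒜)))ᶜ :=
    Set.ext fun y => by
      rw [Set.mem_iInter]
      exact ⟨fun h l hy => hy (h l), fun h l => not_not.1 (h l)⟩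
  rw [h]
  exact isClosed_iInter fun l => (Proj.basicOpen 𝒜 (f l)).2.isClosed_compl

/-- The preorder of specialization. -/
@[implicit_reducible]
def spPre (X : Type u) [TopologicalSpace X] [T0Space X] : Preorder X := (specializationOrder X).toPreorder

/-- Every irreducible component being small or cut properly, the dimension drops. -/
theorem topologicalKrullDim_inter_le {T : Type u} [TopologicalSpace T] [QuasiSober T] [T0Space T] {Y V : Set T}
    (hY : IsClosed Y) (hV : IsClosed V) {n m : ℕ} (hm : topologicalKrullDim ↥Y ≤ ((m + 1 : ℕ) : WithBot ℕ∞))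
    (h : ∀ C ∈ irreducibleComponents ↥Y, topologicalKrullDim ↥C ≤ (n : WithBot ℕ∞) ∨
      ∃ c ∈ C, C ⊆ closure {c} ∧ (c : T) ∉ V) :
    topologicalKrullDim ↥(Y ∩ V) ≤ ((max n m : ℕ) : WithBot ℕ∞) := by
  haveI := hY.isClosedEmbedding_subtypeVal.quasiSober
  haveI := (hY.inter hV).isClosedEmbedding_subtypeVal.quasiSober
  letI := spPre ↥Y
  letI := spPre ↥(Y ∩ V)
  rw [ASp.topologicalKrullDim_eq_krullDim, Order.krullDim]
  refine iSup_le fun p => ?_
  let φ : ↥(Y ∩ V) → ↥Y := fun y => ⟨y.1, y.2.1⟩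
  have hφ : ∀ a b : ↥(Y ∩ V), φ a ⤳ φ b ↔ a ⤳ b := fun a b => by
    rw [subtype_specializes_iff, subtype_specializes_iff]
  have hφlt : StrictMono φ := fun a b hab =>
    lt_of_le_not_ge ((hφ b a).2 hab.le) fun hh => hab.not_ge ((hφ a b).1 hh)
  obtain ⟨C, hC, hlC⟩ := exists_mem_irreducibleComponents_subset_of_isIrreducible (closure {φ p.last})
    isIrreducible_singleton.closure
  have hCc : IsClosed C := isClosed_of_mem_irreducibleComponents C hC
  have hmem : ∀ i, φ (p i) ∈ C := fun i => hlC (specializes_iff_mem_closure.1 ((hφ _ _).2 (p.monotone (Fin.le_last i))))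
  rcases h C hC with hd | ⟨c, hcC, hcl, hcV⟩
  · haveI := hCc.isClosedEmbedding_subtypeVal.quasiSober
    letI := spPre ↥C
    rw [ASp.topologicalKrullDim_eq_krullDim] at hd
    let q : LTSeries ↥C := LTSeries.mk p.length (fun i => ⟨φ (p i), hmem i⟩) fun i j hij => by
      have h1 : φ (p i) < φ (p j) := hφlt (p.strictMono hij)
      exact lt_of_le_not_ge ((subtype_specializes_iff _ _).2 h1.le) fun hh => h1.not_ge ((subtype_specializes_iff _ _).1 hh)
    exact (Order.LTSeries.length_le_krullDim q).trans (hd.trans (Nat.cast_le.2 (le_max_left n m)))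
  · rw [ASp.topologicalKrullDim_eq_krullDim] at hm
    have hle : c ⤳ φ p.last := specializes_iff_mem_closure.2 (hcl (hmem (Fin.last _)))
    have hlt : φ p.last < c := lt_of_le_not_ge hle fun (hh : φ p.last ⤳ c) =>
      hcV (congrArg Subtype.val (hh.antisymm hle).eq ▸ p.last.2.2)
    have h1 := Order.LTSeries.length_le_krullDim ((p.map φ hφlt).snoc c (by simpa using hlt))
    have h2 : ((p.map φ hφlt).snoc c (by simpa using hlt)).length ≤ m + 1 := by
      exact_mod_cast h1.trans hm
    simp only [RelSeries.snoc_length, LTSeries.map_length] at h2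
    have h3 : p.length ≤ max n m := by omega
    exact_mod_cast h3

/-- Forms in a homogeneous ideal cutting the dimension down to that of its zero set. -/
theorem exists_forms [NoetherianSpace (Proj 𝒜)] (I : Ideal A) (hI : I.IsHomogeneous 𝒜)
    (Y₀ X₀ : Set (Proj 𝒜)) (hY : IsClosed Y₀) (hX : IsClosed X₀)
    (hIX : ∀ y ∈ Y₀, I ≤ idl 𝒜 y → y ∈ X₀) {n N : ℕ} (hn : topologicalKrullDim ↥X₀ ≤ (n : WithBot ℕ∞))
    (hN : topologicalKrullDim ↥Y₀ ≤ (N : WithBot ℕ∞)) :
    ∀ j : ℕ, ∃ (f : Fin j → A) (d : Fin j → ℕ), (∀ l, f l ∈ I ∧ f l ∈ 𝒜 (d l)) ∧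
      topologicalKrullDim ↥(Y₀ ∩ zeros 𝒜 f) ≤ ((max n (N - j) : ℕ) : WithBot ℕ∞) := by
  classical
  intro j
  induction j with
  | zero =>
    refine ⟨Fin.elim0, Fin.elim0, fun l => l.elim0, ?_⟩
    refine le_trans ?_ (hN.trans (by exact_mod_cast (le_max_right n (N - 0))))
    exact (Topology.IsEmbedding.inclusion Set.inter_subset_left).isInducing.topologicalKrullDim_le
  | succ j ih =>
    obtain ⟨f, d, hf, hdim⟩ := ih
    let Y := Y₀ ∩ zeros 𝒜 f
    have hYc : IsClosed Y := hY.inter (isClosed_zeros 𝒜 f)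
    haveI := hYc.isClosedEmbedding_subtypeVal.quasiSober
    have hfin : (irreducibleComponents ↥Y).Finite := NoetherianSpace.finite_irreducibleComponents
    let P : Finset (Ideal A) := (hfin.toFinset.filter fun C => ∃ h : IsIrreducible C,
      (h.genericPoint : ↥Y).1 ∉ X₀).attach.image fun C => idl 𝒜 ((Finset.mem_filter.1 C.2).2.choose.genericPoint : ↥Y).1
    obtain ⟨z, ⟨e, -, hze⟩, hzI, hz⟩ := GeomHeightLib.exists_homogeneous_avoid 𝒜 I hI 0 1 one_pos (zero_mem _)
      I.zero_mem P fun q hq => by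
        obtain ⟨C, -, rfl⟩ := Finset.mem_image.1 hq
        have hC' := (Finset.mem_filter.1 C.2).2.choose_spec
        refine ⟨(show ProjectiveSpectrum 𝒜 from _).isPrime, fun h => hC' (hIX _ ?_ h),
          (show ProjectiveSpectrum 𝒜 from _).not_irrelevant_le⟩
        exact (Finset.mem_filter.1 C.2).2.choose.genericPoint.2.1
    refine ⟨Fin.snoc f z, Fin.snoc d e, fun l => ?_, ?_⟩
    · refine Fin.lastCases ?_ (fun l => ?_) l
      · simp only [Fin.snoc_last]; exact ⟨hzI, hze⟩
      · simp only [Fin.snoc_castSucc]; exact hf l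
    have hsplit : Y₀ ∩ zeros 𝒜 (Fin.snoc f z : Fin (j + 1) → A) = Y ∩ zeros 𝒜 (fun _ : Fin 1 => z) := by
      ext y
      simp only [Y, zeros, Set.mem_inter_iff, Set.mem_setOf_eq, Fin.forall_fin_succ', Fin.snoc_castSucc, Fin.snoc_last]
      constructor
      · rintro ⟨h1, h2, h3⟩; exact ⟨⟨h1, h2⟩, fun i => i.elim0, h3⟩
      · rintro ⟨⟨h1, h2⟩, -, h3⟩; exact ⟨h1, h2, h3⟩
    rw [hsplit]
    rcases le_or_gt (N - j) n with hle | hlt
    · refine le_trans ?_ (hdim.trans (by exact_mod_cast (max_le (le_max_left _ _) (hle.trans (le_max_left _ _)))))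
      exact (Topology.IsEmbedding.inclusion Set.inter_subset_left).isInducing.topologicalKrullDim_le
    refine topologicalKrullDim_inter_le hYc (isClosed_zeros 𝒜 _) (hdim.trans ?_) fun C hC => ?_
    · exact_mod_cast (show max n (N - j) ≤ N - (j + 1) + 1 by omega)
    have hCc : IsClosed C := isClosed_of_mem_irreducibleComponents C hC
    have hcl : closure {hC.1.genericPoint} = C := IsIrreducible.closure_genericPoint hC.1 hCc
    by_cases hcX : (hC.1.genericPoint : Proj 𝒜) ∈ X₀
    · refine Or.inl (le_trans ?_ hn)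
      have hsub : ∀ y ∈ C, (y : Proj 𝒜) ∈ X₀ := fun y hy =>
        (((specializes_iff_mem_closure.2 (hcl.ge hy)).map continuous_subtype_val).mem_closed hX hcX)
      let ψ : C → X₀ := fun y => ⟨y.1.1, hsub _ y.2⟩
      exact ((Topology.IsInducing.subtypeVal.of_comp_iff (f := ψ)).1
        ((Topology.IsInducing.subtypeVal (t := fun y => y ∈ Y)).comp Topology.IsInducing.subtypeVal)).topologicalKrullDim_le
    · refine Or.inr ⟨hC.1.genericPoint, hcl.le (subset_closure rfl), hcl.ge, fun hzV => ?_⟩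
      have hCP : C ∈ hfin.toFinset.filter fun C => ∃ h : IsIrreducible C, (h.genericPoint : ↥Y).1 ∉ X₀ :=
        Finset.mem_filter.2 ⟨hfin.mem_toFinset.2 hC, hC.1, hcX⟩
      exact hz _ (Finset.mem_image.2 ⟨⟨C, hCP⟩, Finset.mem_attach _ _, rfl⟩) (hzV 0)

end Groth.Agent.FlatThickLib
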